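import Groth.Agent.S4179
import Groth.Agent.HmapLib.Comp
import Groth.Agent.EtAcycLib.Chase
import Groth.Agent.EtSliceLib.Hpull
import Groth.Agent.CurveFFLib.Twist
import Groth.Prelude.Def_FinFr

/-!
# The absolute Frobenius acts trivially on cohomology with constant coefficients
-/

set_option autoImplicit false
set_option linter.style.haveILetI false
set_option backward.isDefEq.respectTransparency false
set_option backward.isDefEq.respectTransparency.types false
set_option maxHeartbeats 1600000

universe u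

open CategoryTheory CategoryTheory.Limits AlgebraicGeometry Opposite CategoryTheory.Abelian

namespace FrobActLib

variable {Λ : Type} [AddCommGroup Λ] [Fact FinFr.PullExact.{u}]

theorem endConstAdd_comp {X : Scheme.{u}} {Λ : Type} [CommRing Λ] (f g : X ⟶ X) (i : ℕ)
    (x : EtCoh.H X (EtCoh.const X Λ) i) :
    FinFr.endConstAdd (Λ := Λ) f i (FinFr.endConstAdd (Λ := Λ) g i x) =
      FinFr.endConstAdd (Λ := Λ) (f ≫ g) i x := by
  haveI := FinFr.pullExact_out f
  haveI := FinFr.pullExact_out g
  haveI := FinFr.pullExact_out (f ≫ g)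
  show (EtCore.Hpull f (EtCoh.const X Λ) i ((EtCore.Hpull g (EtCoh.const X Λ) i x).comp
      (Ext.mk₀ (EtCore.pullConst g Λ).hom) (add_zero i))).comp
      (Ext.mk₀ (EtCore.pullConst f Λ).hom) (add_zero i) =
    (EtCore.Hpull (f ≫ g) (EtCoh.const X Λ) i x).comp (Ext.mk₀ (EtCore.pullConst (f ≫ g) Λ).hom) (add_zero i)
  rw [EtAcycLib.Hpull_postcomp, Ext.comp_assoc_of_second_deg_zero, Ext.mk₀_comp_mk₀,
    HmapLib.pullConst_comp f g (f ≫ g) rfl, ← Ext.mk₀_comp_mk₀, ← Ext.comp_assoc_of_second_deg_zero]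
  exact congrArg (fun t => Ext.comp t _ (add_zero i)) (EtContLib.hpull_comp f g (f ≫ g) rfl _ i x)

/-- Restriction along the relative Frobenius is inverse to the adjunct of `pullConst`. -/
theorem adjunct_pullConst_restrict {X : Scheme.{u}} {Λ : Type} [CommRing Λ] (φ : X ⟶ X)
    (r : ∀ U : X.Etale, U ⟶ (EtCoh.bc φ).obj U)
    (hr : ∀ {U V : X.Etale} (f : U ⟶ V), r U ≫ (EtCoh.bc φ).map f = f ≫ r V) (U : X.Etale)
    (s : EtCoh.sect (EtCoh.const X Λ) U) :
    (EtCoh.const X Λ).obj.map (r U).op
      ((((EtCoh.pullPushAdj φ).homEquiv (EtCoh.const X Λ) (EtCoh.const X Λ))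
        (EtCore.pullConst φ Λ).hom).hom.app (op U) s) = s := by
  let C := EtCoh.const X Λ
  let ρ : (EtCoh.push φ).obj C ⟶ C := ⟨{ app := fun V => C.obj.map (r V.unop).op
                                         naturality := fun V W f => by
                                           refine Eq.trans (C.obj.map_comp _ _).symm (Eq.trans ?_ (C.obj.map_comp _ _))
                                           exact congrArg C.obj.map (congrArg Quiver.Hom.op (hr f.unop)) }⟩
  have hχ : (EtCoh.pullPushAdj φ).homEquiv C C (EtCore.pullConst φ Λ).hom ≫ ρ = 𝟙 C := by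
    apply ((EtCore.constAdj X).homEquiv _ _).injective
    have key := Adjunction.homEquiv_leftAdjointUniq_hom_app
      (((EtCore.constAdj X).comp (EtCoh.pullPushAdj φ)).ofNatIsoRight (EtCore.pushGsecIso φ))
      (EtCore.constAdj X) (AddCommGrpCat.of (ULift.{u+1} Λ))
    refine ((EtCore.constAdj X).homEquiv_naturality_right _ _).trans ?_
    refine Eq.trans ?_ (key.trans ((EtCore.constAdj X).homEquiv_id _).symm)
    refine Eq.trans ?_ (Groth.Agent.S4179.homEquiv_comp_ofNatIsoRight (EtCore.constAdj X)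
      (EtCoh.pullPushAdj φ) (EtCore.pushGsecIso φ) _ _ _).symm
    refine congrArg (_ ≫ ·) ?_
    show C.obj.map (r (EtCoh.top X)).op = C.obj.map (EtCore.bcTopIso φ).inv.op
    exact congrArg C.obj.map (congrArg Quiver.Hom.op
      ((EtCore.bcTopIsTerminal φ).hom_ext _ _))
  exact congrArg (fun t : C ⟶ C => t.hom.app (op U) s) hχ

theorem endConstAdd_frob {X : Scheme.{u}} {Λ : Type} [CommRing Λ] (p : ℕ) [Fact p.Prime]
    [FrobSch.IsCharP X p] (i : ℕ) (x : EtCoh.H X (EtCoh.const X Λ) i) :
    FinFr.endConstAdd (Λ := Λ) (FrobSch.frob X p) i x = x := by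
  haveI := FinFr.pullExact_out (FrobSch.frob X p)
  haveI hU : ∀ U : X.Etale, FrobSch.IsCharP U.left p := fun U => @FrobSch.IsCharP.of_hom U.left X U.hom p ‹_›
  let φU : ∀ U : X.Etale, U.left ⟶ U.left := fun U => @FrobSch.frob U.left p _ (hU U)
  have hw : ∀ U : X.Etale, φU U ≫ U.hom = U.hom ≫ FrobSch.frob X p := fun U =>
    haveI := hU U; @FrobSch.frob_comp U.left p _ (hU U) X ‹FrobSch.IsCharP X p› U.hom
  have hφc : ∀ (V : X.Opens) (s : Γ(X, V)), (FrobSch.frob X p).app V s =
      X.presheaf.map (eqToHom (FrobSch.frob_preimage X p V)).op (s ^ p) := fun V s => by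
    rw [FrobSch.frob_app]
    exact (ConcreteCategory.congr_hom (X.presheaf.map_id (op V)) (s ^ p)).symm
  have hUc : ∀ (U : X.Etale) (V : U.left.Opens) (s : Γ(U.left, V)), (φU U).app V s =
      U.left.presheaf.map (eqToHom (show φU U ⁻¹ᵁ V = V from rfl)).op (s ^ p) := fun U V s => by
    haveI := hU U
    show (FrobSch.frob U.left p).app V s = _
    rw [FrobSch.frob_app]
    exact (ConcreteCategory.congr_hom (U.left.presheaf.map_id (op V)) (s ^ p)).symm
  let r : ∀ U : X.Etale, U ⟶ (EtCoh.bc (FrobSch.frob X p)).obj U := fun U =>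
    MorphismProperty.Over.homMk (pullback.lift (φU U) U.hom (hw U)) (pullback.lift_snd ..)
  have hr : ∀ {U V : X.Etale} (f : U ⟶ V), r U ≫ (EtCoh.bc (FrobSch.frob X p)).map f = f ≫ r V := by
    intro U V f
    apply MorphismProperty.Over.Hom.ext
    show pullback.lift (φU U) U.hom (hw U) ≫ ((EtCoh.bc (FrobSch.frob X p)).map f).left =
      f.left ≫ pullback.lift (φU V) V.hom (hw V)
    haveI := hU U
    haveI := hU V
    apply pullback.hom_ext
    · have h1 : ((EtCoh.bc (FrobSch.frob X p)).map f).left ≫ pullback.fst V.hom (FrobSch.frob X p) =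
          pullback.fst U.hom (FrobSch.frob X p) ≫ f.left := pullback.lift_fst ..
      rw [Category.assoc, h1, ← Category.assoc, pullback.lift_fst, Category.assoc, pullback.lift_fst]
      exact FrobSch.frob_comp p f.left
    · have h1 : ((EtCoh.bc (FrobSch.frob X p)).map f).left ≫ pullback.snd V.hom (FrobSch.frob X p) =
          pullback.snd U.hom (FrobSch.frob X p) := pullback.lift_snd ..
      rw [Category.assoc, h1, pullback.lift_snd, Category.assoc, pullback.lift_snd]
      exact (MorphismProperty.Over.w f).symm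
  have h := Groth.Agent.S4179.result p X (FrobSch.IsCharP.natCast_eq_zero (X := X) (p := p))
    (FrobSch.frob X p) (fun x => rfl) (fun V => rfl) hφc φU (fun U y => rfl) (fun U V => rfl) hUc hw
    (fun U => pullback.lift_snd _ _ _) (EtCoh.const X Λ) (EtCore.pullConst (FrobSch.frob X p) Λ).hom
    (fun U s => adjunct_pullConst_restrict (FrobSch.frob X p) r hr U s) i
  exact DFunLike.congr_fun h x

theorem endConstAdd_frobIter {X : Scheme.{u}} {Λ : Type} [CommRing Λ] (p : ℕ) [Fact p.Prime]
    [FrobSch.IsCharP X p] (i n : ℕ) (x : EtCoh.H X (EtCoh.const X Λ) i) :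
    FinFr.endConstAdd (Λ := Λ) (FrobSch.frobIter X p (n + 1)) i x = x := by
  induction n with
  | zero => rw [FrobSch.frobIter_succ, FrobSch.frobIter_zero, Category.comp_id, endConstAdd_frob]
  | succ n ih => rw [FrobSch.frobIter_succ, ← endConstAdd_comp, ih, endConstAdd_frob]

theorem specMap_eq_frobIter {R : Type u} [CommRing R] (p n : ℕ) [Fact p.Prime]
    [FrobSch.IsCharP (Spec (CommRingCat.of R)) p] (φ : R →+* R) (hφ : ∀ r, φ r = r ^ p ^ n) :
    Spec.map (CommRingCat.ofHom φ) = FrobSch.frobIter (Spec (CommRingCat.of R)) p n := by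
  refine ext_of_isAffine ?_
  ext s
  obtain ⟨a, rfl⟩ : ∃ a, (Scheme.ΓSpecIso (CommRingCat.of R)).inv a = s :=
    ⟨(Scheme.ΓSpecIso (CommRingCat.of R)).hom s, by simp⟩
  rw [CurveFFLib.frobIter_appTop, ← map_pow, ← hφ]
  exact (congr($(Scheme.ΓSpecIso_inv_naturality (CommRingCat.ofHom φ)) a)).symm

end FrobActLib
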